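import Groth.Agent.Lib.Helper5.Cons.C2

set_option autoImplicit false

universe u

namespace H5.Cons

open AlgebraicGeometry CategoryTheory CategoryTheory.Limits Topology

/-- The self-fibre-product of a base change is the base change of the self-fibre-product. -/
lemma isPullback_pullbackMap_base {C : Type*} [Category C] [HasPullbacks C] {X X' Y Y' : C}
    {f : X ⟶ Y} {g : Y' ⟶ Y} {fst : X' ⟶ X} {snd : X' ⟶ Y'} (sq : IsPullback fst snd f g) :
    IsPullback (pullback.map snd snd f f fst fst g sq.w.symm sq.w.symm)
      (pullback.fst snd snd ≫ snd) (pullback.fst f f ≫ f) g := by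
  refine IsPullback.mk' ?_ ?_ ?_
  · rw [← Category.assoc, pullback.lift_fst, Category.assoc, Category.assoc, sq.w]
  · intro T φ φ' h1 h2
    have e1 := congrArg (· ≫ pullback.fst f f) h1
    have e2 := congrArg (· ≫ pullback.snd f f) h1
    simp only [Category.assoc, pullback.lift_fst, pullback.lift_snd] at e1 e2
    have h2' : φ ≫ pullback.snd snd snd ≫ snd = φ' ≫ pullback.snd snd snd ≫ snd := by
      rw [← pullback.condition]; simpa using h2
    apply pullback.hom_ext
    · apply sq.hom_ext
      · simpa using e1
      · simpa using h2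
    · apply sq.hom_ext
      · simpa using e2
      · simpa using h2'
  · intro T a b hab
    have h1 : (a ≫ pullback.fst f f) ≫ f = b ≫ g := by rw [Category.assoc, hab]
    have h2 : (a ≫ pullback.snd f f) ≫ f = b ≫ g := by
      rw [Category.assoc, ← pullback.condition, hab]
    refine ⟨pullback.lift (sq.lift _ _ h1) (sq.lift _ _ h2) (by rw [sq.lift_snd, sq.lift_snd]),
      ?_, ?_⟩
    · apply pullback.hom_ext
      · rw [Category.assoc, pullback.lift_fst, ← Category.assoc, pullback.lift_fst, sq.lift_fst]
      · rw [Category.assoc, pullback.lift_snd, ← Category.assoc, pullback.lift_snd, sq.lift_fst]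
    · rw [← Category.assoc, pullback.lift_fst, sq.lift_snd]

/-- The diagonal of a base change is the base change of the diagonal. -/
lemma isPullback_diagonal_base {C : Type*} [Category C] [HasPullbacks C] {X X' Y Y' : C}
    {f : X ⟶ Y} {g : Y' ⟶ Y} {fst : X' ⟶ X} {snd : X' ⟶ Y'} (sq : IsPullback fst snd f g) :
    IsPullback fst (pullback.diagonal snd) (pullback.diagonal f)
      (pullback.map snd snd f f fst fst g sq.w.symm sq.w.symm) := by
  have H2 := isPullback_pullbackMap_base sq
  have H4 : IsPullback (pullback.map snd snd f f fst fst g sq.w.symm sq.w.symm)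
      (pullback.fst snd snd) (pullback.fst f f) fst :=
    IsPullback.of_bot H2 (pullback.lift_fst _ _ _) sq
  refine (IsPullback.of_right (h₁₂ := pullback.fst snd snd) (h₂₂ := pullback.fst f f)
    (v₁₃ := fst) ?_ ?_ H4.flip).flip
  · rw [pullback.diagonal_fst, pullback.diagonal_fst]
    exact IsPullback.of_horiz_isIso ⟨by simp⟩
  · apply pullback.hom_ext
    · rw [Category.assoc, Category.assoc, pullback.lift_fst, ← Category.assoc,
        pullback.diagonal_fst, Category.id_comp, pullback.diagonal_fst, Category.comp_id]
    · rw [Category.assoc, Category.assoc, pullback.lift_snd, ← Category.assoc,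
        pullback.diagonal_snd, Category.id_comp, pullback.diagonal_snd, Category.comp_id]

/-- range of the first projection of a pullback square. -/
lemma range_eq_preimage_range {A B A' B' : Scheme.{u}} {a : A' ⟶ A} {φ' : A' ⟶ B'}
    {φ : A ⟶ B} {j : B' ⟶ B} (H : IsPullback a φ' φ j) :
    Set.range a = φ ⁻¹' Set.range j := by
  ext x
  constructor
  · rintro ⟨x', rfl⟩
    exact ⟨φ' x', by rw [← Scheme.Hom.comp_apply, ← H.w, Scheme.Hom.comp_apply]⟩
  · rintro ⟨b', hb'⟩
    obtain ⟨z, hz1, hz2⟩ := Scheme.Pullback.exists_preimage_pullback (f := φ) (g := j) x b' hb'.symm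
    refine ⟨H.isoPullback.inv z, ?_⟩
    rw [← Scheme.Hom.comp_apply, H.isoPullback_inv_fst, hz1]

variable {X Y S : Scheme.{u}} (f : X ⟶ Y) (g : Y ⟶ S)

lemma fibMap_universallyInjective_iff (s : S) :
    UniversallyInjective (fibMap f g s) ↔
      ((pullback.fst f f ≫ f) ≫ g) ⁻¹' {s} ⊆ Set.range (pullback.diagonal f) := by
  have H1 := isPullback_fibMap f g s
  have H2 := isPullback_pullbackMap_base H1
  have H5 := isPullback_diagonal_base H1
  rw [UniversallyInjective.iff_diagonal, surjective_iff, surjective_iff_range_subset H5,
    range_eq_preimage_range H2, range_fst_fromSpecResidueField]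
  rfl

theorem main3444 [LocallyOfFinitePresentation g] [QuasiCompact g] [QuasiSeparated g]
    [LocallyOfFinitePresentation (f ≫ g)] [QuasiCompact (f ≫ g)] [QuasiSeparated (f ≫ g)] :
    IsLocallyConstructible {s : S | UniversallyInjective (fibMap f g s)} := by
  haveI : LocallyOfFinitePresentation f :=
    Groth.Agent.H5.EtSrc.locallyOfFinitePresentation_of_comp f g inferInstance inferInstance
  haveI : QuasiCompact f := QuasiCompact.of_comp f g
  haveI : QuasiSeparated f := QuasiSeparated.of_comp f g
  haveI : LocallyOfFinitePresentation (pullback.diagonal f) :=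
    Groth.Agent.H5.EtSrc.locallyOfFinitePresentation_of_comp (pullback.diagonal f)
      (pullback.fst f f) (by rw [pullback.diagonal_fst]; infer_instance) inferInstance
  have hT : IsLocallyConstructible (Set.range (pullback.diagonal f)) := by
    rw [← Set.image_univ]
    exact (pullback.diagonal f).isLocallyConstructible_image IsLocallyConstructible.univ
  haveI : LocallyOfFinitePresentation ((pullback.fst f f ≫ f) ≫ g) := by
    rw [Category.assoc]; infer_instance
  haveI : QuasiCompact ((pullback.fst f f ≫ f) ≫ g) := by
    rw [Category.assoc]; infer_instance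
  convert isLocallyConstructible_fibre_subset ((pullback.fst f f ≫ f) ≫ g) hT using 1
  ext s
  exact fibMap_universallyInjective_iff f g s

end H5.Cons
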