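import Groth.Agent.Lib.Helper5.Cons.C1
import Groth.Agent.Lib.Helper5.EtSrc.OfComp

set_option autoImplicit false

universe u

namespace H5.Cons

open AlgebraicGeometry CategoryTheory CategoryTheory.Limits Topology

variable {X Y S : Scheme.{u}} (f : X ⟶ Y) (g : Y ⟶ S)

/-- the set of points whose whole fibre lies in a locally constructible set is locally
constructible. -/
lemma isLocallyConstructible_fibre_subset [LocallyOfFinitePresentation g] [QuasiCompact g]
    {T : Set Y} (hT : IsLocallyConstructible T) :
    IsLocallyConstructible {s : S | g ⁻¹' {s} ⊆ T} := by
  have h1 := isLocallyConstructible_compl (g.isLocallyConstructible_image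
    (isLocallyConstructible_compl hT))
  convert h1 using 1
  ext s
  simp only [Set.mem_setOf_eq, Set.mem_compl_iff, Set.mem_image, not_exists, not_and]
  constructor
  · intro h y hy hys
    exact hy (h hys)
  · intro h y hy
    by_contra hyT
    exact h y hyT hy

theorem main3443 [LocallyOfFinitePresentation g] [QuasiCompact g] [QuasiSeparated g]
    [LocallyOfFinitePresentation (f ≫ g)] [QuasiCompact (f ≫ g)] [QuasiSeparated (f ≫ g)] :
    IsLocallyConstructible {s : S | Function.Surjective (fibMap f g s).base} := by
  haveI : LocallyOfFinitePresentation f :=
    Groth.Agent.H5.EtSrc.locallyOfFinitePresentation_of_comp f g inferInstance inferInstance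
  haveI : QuasiCompact f := QuasiCompact.of_comp f g
  have hT : IsLocallyConstructible (Set.range f) := by
    rw [← Set.image_univ]
    exact f.isLocallyConstructible_image IsLocallyConstructible.univ
  convert isLocallyConstructible_fibre_subset g hT using 1
  ext s
  exact fibMap_surjective_iff f g s

end H5.Cons
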