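import Mathlib

set_option autoImplicit false

universe u

namespace H5.Cons

open AlgebraicGeometry CategoryTheory CategoryTheory.Limits Topology

lemma isLocallyConstructible_compl {X : Type*} [TopologicalSpace X] {s : Set X}
    (hs : IsLocallyConstructible s) : IsLocallyConstructible sᶜ := by
  intro x
  obtain ⟨U, hU, hUo, hc⟩ := hs x
  exact ⟨U, hU, hUo, by simpa using hc.compl⟩

/-- The base change `φ'` of `φ` along `j` is surjective iff `range j ⊆ range φ`. -/
lemma surjective_iff_range_subset {A B A' B' : Scheme.{u}} {a : A' ⟶ A} {φ' : A' ⟶ B'}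
    {φ : A ⟶ B} {j : B' ⟶ B} (H : IsPullback a φ' φ j) :
    Function.Surjective φ' ↔ Set.range j ⊆ Set.range φ := by
  constructor
  · rintro h _ ⟨b', rfl⟩
    obtain ⟨a', rfl⟩ := h b'
    exact ⟨a a', by rw [← Scheme.Hom.comp_apply, H.w, Scheme.Hom.comp_apply]⟩
  · intro h b'
    obtain ⟨x, hx⟩ := h ⟨b', rfl⟩
    obtain ⟨z, hz1, hz2⟩ := Scheme.Pullback.exists_preimage_pullback (f := φ) (g := j) x b' hx
    refine ⟨H.isoPullback.inv z, ?_⟩
    rw [← Scheme.Hom.comp_apply, H.isoPullback_inv_snd, hz2]

variable {X Y S : Scheme.{u}} (f : X ⟶ Y) (g : Y ⟶ S)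

/-- the map on fibres over `s`, in the form used by the frozen statements. -/
noncomputable abbrev fibMap (s : S) :
    pullback (f ≫ g) (S.fromSpecResidueField s) ⟶ pullback g (S.fromSpecResidueField s) :=
  pullback.lift (pullback.fst (f ≫ g) (S.fromSpecResidueField s) ≫ f)
    (pullback.snd (f ≫ g) (S.fromSpecResidueField s))
    ((Category.assoc _ _ _).trans pullback.condition)

lemma isPullback_fibMap (s : S) :
    IsPullback (pullback.fst (f ≫ g) (S.fromSpecResidueField s)) (fibMap f g s) f
      (pullback.fst g (S.fromSpecResidueField s)) := by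
  refine IsPullback.of_bot (v₂₁ := pullback.snd _ _) (v₂₂ := g)
    (h₃₁ := S.fromSpecResidueField s) ?_ ?_ (IsPullback.of_hasPullback g (S.fromSpecResidueField s))
  · rw [pullback.lift_snd]
    exact IsPullback.of_hasPullback (f ≫ g) (S.fromSpecResidueField s)
  · rw [pullback.lift_fst]

lemma range_fst_fromSpecResidueField (s : S) :
    Set.range (pullback.fst g (S.fromSpecResidueField s)) = g ⁻¹' {s} :=
  g.range_fiberι s

lemma fibMap_surjective_iff (s : S) :
    Function.Surjective (fibMap f g s) ↔ g ⁻¹' {s} ⊆ Set.range f := by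
  rw [surjective_iff_range_subset (isPullback_fibMap f g s), range_fst_fromSpecResidueField]

end H5.Cons
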